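import Groth.Agent.GrassRep.TrivExt
import Groth.Agent.HilbPtsRep.Rep
import Groth.Agent.HilbDLib.ClosedSub
import Groth.Agent.HilbDLib.Diagonal
import Groth.Agent.ValTest.Basic
import Groth.Agent.FComplLib.Spf

/-!
# Representability of the Grassmannian functor

The Grassmannian of rank `d` quotients of `M` is a closed subscheme of the Hilbert scheme of
`d + 1` points of `Spec (R ⊕ M)`.
-/

set_option autoImplicit false
set_option linter.style.haveILetI false
set_option backward.isDefEq.respectTransparency false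
set_option backward.isDefEq.respectTransparency.types false

universe u

open CategoryTheory CategoryTheory.Limits AlgebraicGeometry TensorProduct

namespace Groth.Agent.GrassRep

noncomputable section

section Affine

variable {C : Type u} [CommRing C]

/-- The ideal sheaf of an ideal on an affine scheme. -/
def idl (J : Ideal C) : (Spec (CommRingCat.of C)).IdealSheafData :=
  (Spec.map (CommRingCat.ofHom (Ideal.Quotient.mk J))).ker

theorem idl_top (J : Ideal C) :
    (idl J).ideal ⟨⊤, isAffineOpen_top _⟩ = J.map (Scheme.ΓSpecIso (CommRingCat.of C)).inv.hom := by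
  rw [idl, FComplLib.ker_specMap_ideal _ Ideal.Quotient.mk_surjective, Ideal.mk_ker]

theorem gamma_map_map (J : Ideal C) :
    (J.map (Scheme.ΓSpecIso (CommRingCat.of C)).inv.hom).map (Scheme.ΓSpecIso (CommRingCat.of C)).hom.hom = J := by
  rw [Ideal.map_map, ← CommRingCat.hom_comp, Iso.inv_hom_id, CommRingCat.hom_id]
  exact Ideal.map_id _

theorem idl_injective : Function.Injective (idl (C := C)) := fun J J' h => by
  rw [← gamma_map_map J, ← gamma_map_map J', ← idl_top, ← idl_top, h]

theorem exists_idl (I : (Spec (CommRingCat.of C)).IdealSheafData) : ∃ J : Ideal C, idl J = I := by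
  refine ⟨(I.ideal ⟨⊤, isAffineOpen_top _⟩).map (Scheme.ΓSpecIso (CommRingCat.of C)).hom.hom, ?_⟩
  refine Scheme.IdealSheafData.ext_of_isAffine ?_
  rw [idl_top, Ideal.map_map, ← CommRingCat.hom_comp, Iso.hom_inv_id, CommRingCat.hom_id]
  exact Ideal.map_id _

theorem idl_bot : idl (⊥ : Ideal C) = ⊥ := by
  refine Scheme.IdealSheafData.ext_of_isAffine ?_
  rw [idl_top, Ideal.map_bot]
  rfl

theorem idl_comap {D : Type u} [CommRing D] (φ : C →+* D) (J : Ideal C) :
    (idl J).comap (Spec.map (CommRingCat.ofHom φ)) = idl (J.map φ) := by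
  refine Scheme.IdealSheafData.ext_of_isAffine ?_
  rw [ValTest.comap_eq_ofIdealTop, idl_top, idl_top, Ideal.map_map, Ideal.map_map, ← CommRingCat.hom_comp]
  congr 1
  have h := congrArg CommRingCat.Hom.hom (Scheme.ΓSpecIso_inv_naturality (CommRingCat.ofHom φ))
  simp only [CommRingCat.hom_comp, CommRingCat.hom_ofHom] at h
  exact h.symm

theorem finLocFreeOfDeg_idl_iff {A : Type u} [CommRing A] [Algebra A C] (J : Ideal C) (e : ℕ) :
    Mor2.IsFinLocFreeOfDeg e ((idl J).subschemeι ≫ Spec.map (CommRingCat.ofHom (algebraMap A C))) ↔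
      Module.Finite A (C ⧸ J) ∧ Module.Projective A (C ⧸ J) ∧
        ∀ p, Module.rankAtStalk (R := A) (C ⧸ J) p = e := by
  haveI : IsClosedImmersion (Spec.map (CommRingCat.ofHom (Ideal.Quotient.mk J))) :=
    IsClosedImmersion.spec_of_surjective _ Ideal.Quotient.mk_surjective
  rw [idl, HilbDLib.finLocFreeOfDeg_ker, ← Spec.map_comp, ← CommRingCat.ofHom_comp,
    show (Ideal.Quotient.mk J).comp (algebraMap A C) = algebraMap A (C ⧸ J) from rfl]
  constructor
  · rintro ⟨⟨hfin, hflat, hfp⟩, hrk⟩
    have h1 : (algebraMap A (C ⧸ J)).Finite := (IsFinite.SpecMap_iff _).1 hfin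
    haveI : Module.Finite A (C ⧸ J) := RingHom.finite_algebraMap.1 h1
    haveI : Module.Flat A (C ⧸ J) := RingHom.flat_algebraMap_iff.1 (Flat.SpecMap_iff.1 hflat)
    haveI : Algebra.FinitePresentation A (C ⧸ J) :=
      RingHom.finitePresentation_algebraMap.1 ((HasRingHomProperty.Spec_iff (P := @LocallyOfFinitePresentation)).1 hfp)
    haveI : Module.FinitePresentation A (C ⧸ J) :=
      Module.FinitePresentation.of_finite_of_finitePresentation A (C ⧸ J)
    refine ⟨inferInstance, Module.Flat.projective_of_finitePresentation, fun p => ?_⟩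
    rw [← hrk p]
    exact (Scheme.Hom.finrank_SpecMap_algebraMap A (C ⧸ J) p).symm
  · rintro ⟨hfin, hproj, hrk⟩
    haveI : Module.FinitePresentation A (C ⧸ J) := Module.finitePresentation_of_projective _ _
    haveI : Algebra.FinitePresentation A (C ⧸ J) := Algebra.FinitePresentation.of_finitePresentation _ _
    refine ⟨⟨(IsFinite.SpecMap_iff _).2 (show (algebraMap A (C ⧸ J)).Finite from RingHom.finite_algebraMap.2 inferInstance),
      Flat.SpecMap_iff.2 (show (algebraMap A (C ⧸ J)).Flat from RingHom.flat_algebraMap_iff.2 inferInstance),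
      (HasRingHomProperty.Spec_iff (P := @LocallyOfFinitePresentation)).2
        (show (algebraMap A (C ⧸ J)).FinitePresentation from RingHom.finitePresentation_algebraMap.2 inferInstance)⟩,
      fun p => ?_⟩
    exact (Scheme.Hom.finrank_SpecMap_algebraMap A (C ⧸ J) p).trans (hrk p)

theorem exists_factor_iff {T Y : Scheme.{u}} (I : Y.IdealSheafData) (g : T ⟶ Y) :
    (∃ h : T ⟶ I.subscheme, h ≫ I.subschemeι = g) ↔ I.comap g = ⊥ := by
  rw [← le_bot_iff, ← Scheme.IdealSheafData.le_map_iff_comap_le, Scheme.IdealSheafData.map_bot]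
  constructor
  · rintro ⟨h, rfl⟩
    exact le_of_eq_of_le I.ker_subschemeι.symm (Scheme.Hom.le_ker_comp _ _)
  · intro hle
    exact ⟨IsClosedImmersion.lift I.subschemeι g (le_of_eq_of_le I.ker_subschemeι hle),
      IsClosedImmersion.lift_fac _ _ _⟩

end Affine

variable (R : Type u) [CommRing R] (M : Type u) [AddCommGroup M] [Module R M]

/-- The structure map of `Spec (R ⊕ M)`. -/
def str : Spec (CommRingCat.of (Ext R M)) ⟶ Spec (CommRingCat.of R) :=
  Spec.map (CommRingCat.ofHom (algebraMap R (Ext R M)))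

/-- The zero section. -/
def zeroSec : Spec (CommRingCat.of R) ⟶ Spec (CommRingCat.of (Ext R M)) :=
  Spec.map (CommRingCat.ofHom (aug R M).toRingHom)

theorem zeroSec_str : zeroSec R M ≫ str R M = 𝟙 _ := by
  rw [zeroSec, str, ← Spec.map_comp, ← CommRingCat.ofHom_comp]
  refine (congrArg (fun φ => Spec.map (CommRingCat.ofHom φ)) ?_).trans (Spec.map_id _)
  exact (aug R M).comp_algebraMap.trans Algebra.algebraMap_self

/-- The zero section over a base. -/
def sig (T : Over (Spec (CommRingCat.of R))) : T.left ⟶ PicF.XT (str R M) T :=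
  HilbDLib.sec (str R M) T (T.hom ≫ zeroSec R M) (by rw [Category.assoc, zeroSec_str, Category.comp_id])

theorem sig_fst (T : Over (Spec (CommRingCat.of R))) :
    sig R M T ≫ pullback.fst (str R M) T.hom = T.hom ≫ zeroSec R M := pullback.lift_fst _ _ _

theorem sig_snd (T : Over (Spec (CommRingCat.of R))) :
    sig R M T ≫ pullback.snd (str R M) T.hom = 𝟙 _ := pullback.lift_snd _ _ _

theorem sig_map {T T' : Over (Spec (CommRingCat.of R))} (g : T' ⟶ T) :
    sig R M T' ≫ PicF.XTmap (str R M) g = g.left ≫ sig R M T := by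
  apply pullback.hom_ext
  · simp only [Category.assoc, PicF.XTmap, pullback.lift_fst, Category.comp_id, sig_fst]
    rw [← Category.assoc, Over.w g]
  · simp only [Category.assoc, PicF.XTmap, pullback.lift_snd, sig_snd]
    rw [← Category.assoc, sig_snd, Category.id_comp, Category.comp_id]

/-- The spectrum of an algebra over the base. -/
abbrev sp (A : CommAlgCat.{u} R) : Over (Spec (CommRingCat.of R)) :=
  Over.mk (Spec.map (CommRingCat.ofHom (algebraMap R A)))

theorem isPullback_ext (A : CommAlgCat.{u} R) :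
    IsPullback (Spec.map (CommRingCat.ofHom (Algebra.TensorProduct.includeRight (R := R) (A := (A : Type u))
        (B := Ext R M)).toRingHom))
      (Spec.map (CommRingCat.ofHom (algebraMap (A : Type u) (A ⊗[R] Ext R M))))
      (str R M) (sp R A).hom := by
  exact (isPullback_SpecMap_of_isPushout _ _ _ _ (CommRingCat.isPushout_tensorProduct R A (Ext R M))).flip

/-- The base change of `Spec (R ⊕ M)` to an algebra. -/
def iso (A : CommAlgCat.{u} R) : Spec (CommRingCat.of ((A : Type u) ⊗[R] Ext R M)) ≅ PicF.XT (str R M) (sp R A) :=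
  (isPullback_ext R M A).isoPullback

theorem iso_fst (A : CommAlgCat.{u} R) : (iso R M A).hom ≫ pullback.fst (str R M) (sp R A).hom =
    Spec.map (CommRingCat.ofHom (Algebra.TensorProduct.includeRight (R := R) (A := (A : Type u))
        (B := Ext R M)).toRingHom) :=
  (isPullback_ext R M A).isoPullback_hom_fst

theorem iso_snd (A : CommAlgCat.{u} R) : (iso R M A).hom ≫ pullback.snd (str R M) (sp R A).hom =
    Spec.map (CommRingCat.ofHom (algebraMap (A : Type u) (A ⊗[R] Ext R M))) :=
  (isPullback_ext R M A).isoPullback_hom_snd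

theorem augA_iso (A : CommAlgCat.{u} R) :
    Spec.map (CommRingCat.ofHom (augA R M (A : Type u)).toRingHom) ≫ (iso R M A).hom = sig R M (sp R A) := by
  apply pullback.hom_ext
  · rw [Category.assoc, iso_fst, sig_fst, ← Spec.map_comp, ← CommRingCat.ofHom_comp]
    show _ = Spec.map _ ≫ zeroSec R M
    rw [zeroSec, ← Spec.map_comp, ← CommRingCat.ofHom_comp]
    congr 2
    ext b
    show augA R M A ((1 : A) ⊗ₜ[R] b) = algebraMap R A (aug R M b)
    rw [augA_tmul, Algebra.algebraMap_eq_smul_one]
  · rw [Category.assoc, iso_snd, sig_snd, ← Spec.map_comp, ← CommRingCat.ofHom_comp]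
    refine (congrArg (fun φ => Spec.map (CommRingCat.ofHom φ)) ?_).trans (Spec.map_id _)
    exact (augA R M (A : Type u)).comp_algebraMap.trans Algebra.algebraMap_self

theorem iso_map {A B : CommAlgCat.{u} R} (φ : A ⟶ B) (g : sp R B ⟶ sp R A)
    (hg : g.left = Spec.map (CommRingCat.ofHom φ.hom.toRingHom)) :
    (iso R M B).hom ≫ PicF.XTmap (str R M) g =
      Spec.map (CommRingCat.ofHom (chg (M := M) φ.hom).toRingHom) ≫ (iso R M A).hom := by
  apply pullback.hom_ext
  · simp only [Category.assoc, PicF.XTmap, pullback.lift_fst, Category.comp_id, iso_fst, ← Spec.map_comp,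
      ← CommRingCat.ofHom_comp]
    congr 2
    ext b
    show ((1 : B) ⊗ₜ[R] b) = chg φ.hom ((1 : A) ⊗ₜ[R] b)
    simp [chg]
  · simp only [Category.assoc, PicF.XTmap, pullback.lift_snd, iso_snd]
    rw [← Category.assoc, iso_snd, hg, ← Spec.map_comp, ← Spec.map_comp, ← CommRingCat.ofHom_comp,
      ← CommRingCat.ofHom_comp]
    rfl

theorem xtmap_comp {T T' T'' : Over (Spec (CommRingCat.of R))} (g : T' ⟶ T) (g' : T'' ⟶ T') :
    PicF.XTmap (str R M) (g' ≫ g) = PicF.XTmap (str R M) g' ≫ PicF.XTmap (str R M) g := by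
  apply pullback.hom_ext <;> simp [PicF.XTmap]

theorem idl_map_eq {A B : CommAlgCat.{u} R} (φ : A ⟶ B) (s : sp R B ⟶ sp R A)
    (hs : s.left = Spec.map (CommRingCat.ofHom φ.hom.toRingHom)) {H : Over (Spec (CommRingCat.of R))}
    (Z : (PicF.XT (str R M) H).IdealSheafData) (g : sp R A ⟶ H)
    {J : Ideal ((A : Type u) ⊗[R] Ext R M)} {J' : Ideal ((B : Type u) ⊗[R] Ext R M)}
    (hJ : idl J = (HilbD.pull (str R M) g Z).comap (iso R M A).hom)
    (hJ' : idl J' = (HilbD.pull (str R M) (s ≫ g) Z).comap (iso R M B).hom) :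
    J' = J.map (chg (M := M) φ.hom).toRingHom := by
  refine idl_injective ?_
  rw [← idl_comap, hJ, hJ', HilbDLib.pull_eq_comap, HilbDLib.pull_eq_comap, xtmap_comp,
    ← Scheme.IdealSheafData.comap_comp, ← Scheme.IdealSheafData.comap_comp, ← Scheme.IdealSheafData.comap_comp,
    ← Category.assoc, iso_map R M φ s hs, Category.assoc]

theorem finLocFree_iso (A : CommAlgCat.{u} R) (d : ℕ) (I : (PicF.XT (str R M) (sp R A)).IdealSheafData)
    (J : Ideal ((A : Type u) ⊗[R] Ext R M)) (h : idl J = I.comap (iso R M A).hom) :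
    Mor2.IsFinLocFreeOfDeg d (I.subschemeι ≫ PicF.XTproj (str R M) (sp R A)) ↔
      Module.Finite A ((A : Type u) ⊗[R] Ext R M ⧸ J) ∧ Module.Projective A ((A : Type u) ⊗[R] Ext R M ⧸ J) ∧
        ∀ p, Module.rankAtStalk (R := A) ((A : Type u) ⊗[R] Ext R M ⧸ J) p = d := by
  rw [← finLocFreeOfDeg_idl_iff J d, h]
  have hk : ((I.comap (iso R M A).hom).subschemeι ≫ (iso R M A).hom).ker = I := by
    show (I.comap (iso R M A).hom).map (iso R M A).hom = I
    refine le_antisymm ?_ (Scheme.IdealSheafData.le_map_comap I _)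
    have h2 : ((I.comap (iso R M A).hom).map (iso R M A).hom).comap ((iso R M A).inv ≫ (iso R M A).hom) ≤
        (I.comap (iso R M A).hom).comap (iso R M A).inv := by
      rw [Scheme.IdealSheafData.comap_comp]
      exact Scheme.IdealSheafData.comap_mono _ (Scheme.IdealSheafData.comap_map_le _ _)
    rwa [Iso.inv_hom_id, Scheme.IdealSheafData.comap_id, ← Scheme.IdealSheafData.comap_comp, Iso.inv_hom_id,
      Scheme.IdealSheafData.comap_id] at h2
  conv_lhs => rw [← hk]
  rw [HilbDLib.finLocFreeOfDeg_ker, Category.assoc]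
  rw [show (iso R M A).hom ≫ PicF.XTproj (str R M) (sp R A) = _ from iso_snd R M A]

/-- The Grassmannian functor is representable. -/
theorem exists_grass (d : ℕ) :
    ∃ (X : Over (Spec (CommRingCat.of R)))
      (e : ∀ A : CommAlgCat.{u} R, (sp R A ⟶ X) ≃ (Module.Grassmannian.functor (R := R) (M := M) d).obj A),
      ∀ (A B : CommAlgCat.{u} R) (φ : A ⟶ B) (g : sp R A ⟶ X) (g' : sp R B ⟶ X),
        g'.left = Spec.map (CommRingCat.ofHom φ.hom.toRingHom) ≫ g.left →
          e B g' = (Module.Grassmannian.functor (R := R) (M := M) d).map φ (e A g) := by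
  classical
  obtain ⟨H, Z, hU⟩ : HilbD.Representable (str R M) (d + 1) :=
    HilbPtsRep.representable fun _ _ _ => ⟨⊤, isAffineOpen_top _, fun _ => trivial⟩
  let I₀ : H.left.IdealSheafData := Z.1.comap (sig R M H)
  let G : Over (Spec (CommRingCat.of R)) := Over.mk (I₀.subschemeι ≫ H.hom)
  let incl : G ⟶ H := Over.homMk I₀.subschemeι rfl
  haveI : Mono incl := (Over.forget _).mono_of_mono_map (show Mono I₀.subschemeι from inferInstance)
  choose J hJ using fun (A : CommAlgCat.{u} R) (g : sp R A ⟶ H) =>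
    exists_idl ((HilbD.pull (str R M) g Z.1).comap (iso R M A).hom)
  have hpull : ∀ (A : CommAlgCat.{u} R) (g : sp R A ⟶ H),
      Mor2.IsFinLocFreeOfDeg (d + 1) ((HilbD.pull (str R M) g Z.1).subschemeι ≫ PicF.XTproj (str R M) (sp R A)) :=
    fun A g => HilbDLib.isFinLocFreeOfDeg_pull (str R M) g Z.1 Z.2
  have hfree : ∀ (A : CommAlgCat.{u} R) (g : sp R A ⟶ H),
      Module.Finite A ((A : Type u) ⊗[R] Ext R M ⧸ J A g) ∧
      Module.Projective A ((A : Type u) ⊗[R] Ext R M ⧸ J A g) ∧
        ∀ p, Module.rankAtStalk (R := A) ((A : Type u) ⊗[R] Ext R M ⧸ J A g) p = d + 1 :=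
    fun A g => (finLocFree_iso R M A (d + 1) _ _ (hJ A g)).1 (hpull A g)
  have hcond : ∀ (A : CommAlgCat.{u} R) (g : sp R A ⟶ H),
      (J A g).map (augA R M (A : Type u)) = ⊥ ↔ I₀.comap g.left = ⊥ := by
    intro A g
    have h1 : I₀.comap g.left = idl ((J A g).map (augA R M (A : Type u)).toRingHom) := by
      rw [← idl_comap, hJ, HilbDLib.pull_eq_comap, ← Scheme.IdealSheafData.comap_comp,
        ← Scheme.IdealSheafData.comap_comp, ← Scheme.IdealSheafData.comap_comp, augA_iso,
        sig_map]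
    rw [h1, ← idl_bot]
    exact ⟨fun h => congrArg idl h, fun h => idl_injective h⟩
  have hG : ∀ (A : CommAlgCat.{u} R) (x : sp R A ⟶ G), (J A (x ≫ incl)).map (augA R M (A : Type u)) = ⊥ :=
    fun A x => (hcond A _).2 ((exists_factor_iff I₀ _).1 ⟨x.left, rfl⟩)
  let toGr : ∀ A : CommAlgCat.{u} R, (sp R A ⟶ G) → Module.Grassmannian A ((A : Type u) ⊗[R] M) d :=
    fun A x =>
      haveI := (hfree A (x ≫ incl)).1
      haveI := (hfree A (x ≫ incl)).2.1
      ofIdealGr d (J A (x ≫ incl)) (hG A x) (hfree A (x ≫ incl)).2.2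
  have htoGr : ∀ A x, toIdeal (toGr A x).toSubmodule = J A (x ≫ incl) := fun A x => toIdeal_ofIdeal (hG A x)
  have hbij : ∀ A, Function.Bijective (toGr A) := by
    refine fun A => ⟨fun x y h => ?_, fun N => ?_⟩
    · have hJxy : J A (x ≫ incl) = J A (y ≫ incl) := by rw [← htoGr, ← htoGr, h]
      have hp : HilbD.pull (str R M) (x ≫ incl) Z.1 = HilbD.pull (str R M) (y ≫ incl) Z.1 := by
        have h' : (HilbD.pull (str R M) (x ≫ incl) Z.1).comap (iso R M A).hom =
            (HilbD.pull (str R M) (y ≫ incl) Z.1).comap (iso R M A).hom := by rw [← hJ, ← hJ, hJxy]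
        have h'' := congrArg (fun I => Scheme.IdealSheafData.comap I (iso R M A).inv) h'
        simpa only [← Scheme.IdealSheafData.comap_comp, Iso.inv_hom_id, Scheme.IdealSheafData.comap_id] using h''
      obtain ⟨g, -, hg⟩ := hU (sp R A) ⟨HilbD.pull (str R M) (x ≫ incl) Z.1, hpull A _⟩
      exact (cancel_mono incl).1 ((hg _ rfl).trans (hg _ hp.symm).symm)
    · have h1 : idl (toIdeal N.toSubmodule) =
          ((idl (toIdeal N.toSubmodule)).comap (iso R M A).inv).comap (iso R M A).hom := by
        rw [← Scheme.IdealSheafData.comap_comp, Iso.hom_inv_id, Scheme.IdealSheafData.comap_id]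
      obtain ⟨g, hg, -⟩ := hU (sp R A) ⟨(idl (toIdeal N.toSubmodule)).comap (iso R M A).inv,
        (finLocFree_iso R M A (d + 1) _ _ h1).2 (finite_projective_rank d N)⟩
      have hJg : J A g = toIdeal N.toSubmodule := idl_injective (by rw [hJ, hg, ← h1])
      obtain ⟨x, hx⟩ := (exists_factor_iff I₀ g.left).2 ((hcond A g).1 (by rw [hJg]; exact map_augA_toIdeal _))
      refine ⟨Over.homMk x (by
        show x ≫ I₀.subschemeι ≫ H.hom = _
        rw [← Category.assoc, hx, Over.w g]), ?_⟩
      have hxg : (Over.homMk x (by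
          show x ≫ I₀.subschemeι ≫ H.hom = _
          rw [← Category.assoc, hx, Over.w g]) : sp R A ⟶ G) ≫ incl = g := Over.OverMorphism.ext hx
      refine Module.Grassmannian.ext ?_
      rw [← ofIdeal_toIdeal (toGr A _).toSubmodule, htoGr, hxg, hJg, ofIdeal_toIdeal]
  refine ⟨G, fun A => Equiv.ofBijective (toGr A) (hbij A), fun A B φ x x' hx => ?_⟩
  show toGr B x' = Module.Grassmannian.map φ.hom (toGr A x)
  refine Module.Grassmannian.ext ?_
  let s : sp R B ⟶ sp R A := Over.homMk (Spec.map (CommRingCat.ofHom φ.hom.toRingHom)) (by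
    show Spec.map _ ≫ Spec.map _ = Spec.map _
    rw [← Spec.map_comp, ← CommRingCat.ofHom_comp]
    exact congrArg (fun t => Spec.map (CommRingCat.ofHom t)) φ.hom.comp_algebraMap)
  have hxs : x' = s ≫ x := Over.OverMorphism.ext hx
  have hJ' : J B (x' ≫ incl) = (J A (x ≫ incl)).map (chg (M := M) φ.hom).toRingHom :=
    idl_map_eq R M φ s rfl Z.1 (x ≫ incl) (hJ A _) (by rw [hxs]; simpa only [Category.assoc] using hJ B ((s ≫ x) ≫ incl))
  have h2 : toIdeal (toGr B x').toSubmodule = toIdeal (Module.Grassmannian.map φ.hom (toGr A x)).toSubmodule := by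
    rw [htoGr, hJ', toIdeal_map, htoGr]
    rfl
  rw [← ofIdeal_toIdeal (toGr B x').toSubmodule, h2, ofIdeal_toIdeal]

end

end Groth.Agent.GrassRep
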