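import Mathlib

/-!
# The Grassmannian inside the ideals of a trivial square-zero extension

For a module `M` over `R` the submodules of `A ⊗ M` are the ideals of `A ⊗ (R ⊕ M)` killed by the
augmentation.
-/

set_option autoImplicit false
set_option linter.style.haveILetI false
set_option backward.isDefEq.respectTransparency false
set_option backward.isDefEq.respectTransparency.types false

universe u

open TensorProduct

namespace Groth.Agent.GrassRep

noncomputable section

variable (R : Type u) [CommRing R] (M : Type u) [AddCommGroup M] [Module R M]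

local instance opModule : Module Rᵐᵒᵖ M :=
  Module.compHom M (((RingHom.id R).fromOpposite mul_comm) : Rᵐᵒᵖ →+* R)

local instance isCentralScalar : IsCentralScalar R M := ⟨fun _ _ => rfl⟩

/-- The trivial square-zero extension `R ⊕ M`. -/
def Ext : Type u := TrivSqZeroExt R M

instance : CommRing (Ext R M) := inferInstanceAs (CommRing (TrivSqZeroExt R M))
instance : Algebra R (Ext R M) := inferInstanceAs (Algebra R (TrivSqZeroExt R M))

/-- The augmentation. -/
def aug : Ext R M →ₐ[R] R := TrivSqZeroExt.fstHom R R M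

/-- The inclusion of `M`. -/
def inc : M →ₗ[R] Ext R M := TrivSqZeroExt.inrHom R M

/-- The projection onto `M`. -/
def prj : Ext R M →ₗ[R] M := TrivSqZeroExt.sndHom R M

variable {R M}

theorem aug_inc (m : M) : aug R M (inc R M m) = 0 := TrivSqZeroExt.fst_inr R m

theorem prj_inc (m : M) : prj R M (inc R M m) = m := TrivSqZeroExt.snd_inr R m

theorem prj_algebraMap (r : R) : prj R M (algebraMap R (Ext R M) r) = 0 := TrivSqZeroExt.snd_inl M r

theorem inc_mul_inc (m m' : M) : inc R M m * inc R M m' = 0 := TrivSqZeroExt.inr_mul_inr R m m'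

theorem decomp (b : Ext R M) : b = algebraMap R (Ext R M) (aug R M b) + inc R M (prj R M b) :=
  (TrivSqZeroExt.inl_fst_add_inr_snd_eq b).symm

variable (A : Type u) [CommRing A] [Algebra R A]

variable (R M) in
/-- The base-changed augmentation. -/
def augA : A ⊗[R] Ext R M →ₐ[A] A :=
  (Algebra.TensorProduct.rid R A A).toAlgHom.comp (Algebra.TensorProduct.map (AlgHom.id A A) (aug R M))

variable (R M) in
/-- The base-changed inclusion. -/
def incA : A ⊗[R] M →ₗ[A] A ⊗[R] Ext R M := (inc R M).baseChange A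

variable (R M) in
/-- The base-changed projection. -/
def prjA : A ⊗[R] Ext R M →ₗ[A] A ⊗[R] M := (prj R M).baseChange A

theorem augA_tmul (a : A) (b : Ext R M) : augA R M A (a ⊗ₜ[R] b) = aug R M b • a := by
  simp [augA]

theorem augA_incA (x : A ⊗[R] M) : augA R M A (incA R M A x) = 0 := by
  induction x with
  | zero => simp
  | tmul a m => rw [incA, LinearMap.baseChange_tmul, augA_tmul, aug_inc, zero_smul]
  | add x y hx hy => rw [map_add, map_add, hx, hy, add_zero]

theorem prjA_incA (x : A ⊗[R] M) : prjA R M A (incA R M A x) = x := by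
  induction x with
  | zero => simp
  | tmul a m => rw [incA, prjA, LinearMap.baseChange_tmul, LinearMap.baseChange_tmul, prj_inc]
  | add x y hx hy => rw [map_add, map_add, hx, hy]

theorem prjA_algebraMap (a : A) : prjA R M A (algebraMap A (A ⊗[R] Ext R M) a) = 0 := by
  rw [Algebra.TensorProduct.algebraMap_apply, prjA, LinearMap.baseChange_tmul,
    show (1 : Ext R M) = algebraMap R (Ext R M) 1 from (map_one _).symm, prj_algebraMap, tmul_zero]

theorem decompA (z : A ⊗[R] Ext R M) :
    z = algebraMap A (A ⊗[R] Ext R M) (augA R M A z) + incA R M A (prjA R M A z) := by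
  induction z with
  | zero => simp
  | tmul a b =>
    rw [augA_tmul, incA, prjA, LinearMap.baseChange_tmul, LinearMap.baseChange_tmul,
      Algebra.TensorProduct.algebraMap_apply, Algebra.algebraMap_self_apply, smul_tmul,
      ← Algebra.algebraMap_eq_smul_one, ← tmul_add, ← decomp b]
  | add x y hx hy =>
    rw [map_add, map_add, map_add, map_add, add_add_add_comm, ← hx, ← hy]

theorem incA_mul_incA (x y : A ⊗[R] M) : incA R M A x * incA R M A y = 0 := by
  induction x with
  | zero => simp
  | tmul a m =>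
    induction y with
    | zero => simp
    | tmul a' m' =>
      rw [incA, LinearMap.baseChange_tmul, LinearMap.baseChange_tmul, Algebra.TensorProduct.tmul_mul_tmul,
        inc_mul_inc, tmul_zero]
    | add x y hx hy => rw [map_add, mul_add, hx, hy, add_zero]
  | add x y hx hy => rw [map_add, add_mul, hx, hy, add_zero]

theorem mul_incA (z : A ⊗[R] Ext R M) (x : A ⊗[R] M) :
    z * incA R M A x = incA R M A (augA R M A z • x) := by
  conv_lhs => rw [decompA A z]
  rw [add_mul, incA_mul_incA, add_zero, ← Algebra.smul_def, map_smul]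

variable {A}

/-- The ideal of a submodule. -/
def toIdeal (N : Submodule A (A ⊗[R] M)) : Ideal (A ⊗[R] Ext R M) where
  carrier := {z | augA R M A z = 0 ∧ prjA R M A z ∈ N}
  add_mem' := fun {z w} hz hw =>
    ⟨by rw [map_add, hz.1, hw.1, add_zero], by rw [map_add]; exact add_mem hz.2 hw.2⟩
  zero_mem' := ⟨map_zero _, by rw [map_zero]; exact zero_mem _⟩
  smul_mem' := fun c z hz => by
    refine ⟨by rw [smul_eq_mul, map_mul, hz.1, mul_zero], ?_⟩
    have h : z = incA R M A (prjA R M A z) := by
      conv_lhs => rw [decompA A z, hz.1, map_zero, zero_add]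
    rw [smul_eq_mul, h, mul_incA, prjA_incA]
    exact N.smul_mem _ hz.2

theorem mem_toIdeal {N : Submodule A (A ⊗[R] M)} {z : A ⊗[R] Ext R M} :
    z ∈ toIdeal N ↔ augA R M A z = 0 ∧ prjA R M A z ∈ N := Iff.rfl

/-- The submodule of an ideal. -/
def ofIdeal (J : Ideal (A ⊗[R] Ext R M)) : Submodule A (A ⊗[R] M) :=
  (J.restrictScalars A).comap (incA R M A)

theorem mem_ofIdeal {J : Ideal (A ⊗[R] Ext R M)} {x : A ⊗[R] M} :
    x ∈ ofIdeal J ↔ incA R M A x ∈ J := Iff.rfl

theorem ofIdeal_toIdeal (N : Submodule A (A ⊗[R] M)) : ofIdeal (toIdeal N) = N := by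
  ext x
  rw [mem_ofIdeal, mem_toIdeal, augA_incA, prjA_incA]
  simp

theorem map_augA_toIdeal (N : Submodule A (A ⊗[R] M)) : (toIdeal N).map (augA R M A) = ⊥ := by
  rw [Ideal.map_eq_bot_iff_le_ker]
  exact fun z hz => hz.1

theorem toIdeal_ofIdeal {J : Ideal (A ⊗[R] Ext R M)} (hJ : J.map (augA R M A) = ⊥) :
    toIdeal (ofIdeal J) = J := by
  rw [Ideal.map_eq_bot_iff_le_ker] at hJ
  have h : ∀ z, augA R M A z = 0 → z = incA R M A (prjA R M A z) := fun z hz => by
    conv_lhs => rw [decompA A z, hz, map_zero, zero_add]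
  ext z
  rw [mem_toIdeal, mem_ofIdeal]
  exact ⟨fun hz => (h z hz.1).symm ▸ hz.2, fun hz => ⟨hJ hz, (h z (hJ hz)) ▸ hz⟩⟩

/-- The quotient by the ideal of a submodule splits. -/
def quotEquiv (N : Submodule A (A ⊗[R] M)) :
    ((A ⊗[R] Ext R M) ⧸ toIdeal N) ≃ₗ[A] A × ((A ⊗[R] M) ⧸ N) :=
  let f : A ⊗[R] Ext R M →ₗ[A] A × ((A ⊗[R] M) ⧸ N) :=
    (augA R M A).toLinearMap.prod (N.mkQ.comp (prjA R M A))
  ((Submodule.Quotient.restrictScalarsEquiv A (toIdeal N)).symm.trans
    (Submodule.quotEquivOfEq _ _ (by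
      ext z
      simp [f, LinearMap.mem_ker, mem_toIdeal]))).trans
    (f.quotKerEquivOfSurjective fun ⟨a, q⟩ => by
      obtain ⟨x, rfl⟩ := N.mkQ_surjective q
      refine ⟨algebraMap A _ a + incA R M A x, Prod.ext ?_ ?_⟩
      · show augA R M A (algebraMap A _ a + incA R M A x) = a
        rw [map_add, augA_incA, AlgHom.commutes, add_zero]
        rfl
      · show N.mkQ (prjA R M A (algebraMap A _ a + incA R M A x)) = N.mkQ x
        rw [map_add, prjA_algebraMap, prjA_incA, zero_add])

theorem finite_projective_rank (d : ℕ) (N : Module.Grassmannian A (A ⊗[R] M) d) :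
    Module.Finite A ((A ⊗[R] Ext R M) ⧸ toIdeal N.toSubmodule) ∧
      Module.Projective A ((A ⊗[R] Ext R M) ⧸ toIdeal N.toSubmodule) ∧
      ∀ p, Module.rankAtStalk (R := A) ((A ⊗[R] Ext R M) ⧸ toIdeal N.toSubmodule) p = d + 1 := by
  haveI := N.finite_quotient
  haveI := N.projective_quotient
  haveI : Module.Finite A (A × ((A ⊗[R] M) ⧸ N.toSubmodule)) := inferInstance
  refine ⟨Module.Finite.equiv (quotEquiv N.toSubmodule).symm,
    Module.Projective.of_equiv (quotEquiv N.toSubmodule).symm, fun p => ?_⟩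
  haveI : Nontrivial A := p.nontrivial
  rw [Module.rankAtStalk_eq_of_equiv (quotEquiv N.toSubmodule), Module.rankAtStalk_prod,
    Pi.add_apply, Module.rankAtStalk_self, N.rankAtStalk_eq]
  simp [add_comm]

/-- The point of the Grassmannian of an ideal. -/
def ofIdealGr (d : ℕ) (J : Ideal (A ⊗[R] Ext R M)) (hJ : J.map (augA R M A) = ⊥)
    [hf : Module.Finite A ((A ⊗[R] Ext R M) ⧸ J)] [hp : Module.Projective A ((A ⊗[R] Ext R M) ⧸ J)]
    (hr : ∀ p, Module.rankAtStalk (R := A) ((A ⊗[R] Ext R M) ⧸ J) p = d + 1) :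
    Module.Grassmannian A (A ⊗[R] M) d :=
  let e : ((A ⊗[R] Ext R M) ⧸ J) ≃ₗ[A] A × ((A ⊗[R] M) ⧸ ofIdeal J) :=
    (((Submodule.Quotient.restrictScalarsEquiv A J).symm.trans
      (Submodule.quotEquivOfEq _ _ (congrArg (Submodule.restrictScalars A) (toIdeal_ofIdeal hJ).symm))).trans
      (Submodule.Quotient.restrictScalarsEquiv A _)).trans (quotEquiv (ofIdeal J))
  haveI hf' : Module.Finite A ((A ⊗[R] M) ⧸ ofIdeal J) :=
    Module.Finite.of_surjective ((LinearMap.snd A A ((A ⊗[R] M) ⧸ ofIdeal J)).comp e.toLinearMap)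
      (fun y => ⟨e.symm (0, y), by simp⟩)
  haveI hp' : Module.Projective A ((A ⊗[R] M) ⧸ ofIdeal J) :=
    haveI := Module.Projective.of_equiv e
    Module.Projective.of_split (LinearMap.inr A A ((A ⊗[R] M) ⧸ ofIdeal J))
      (LinearMap.snd A A ((A ⊗[R] M) ⧸ ofIdeal J)) (LinearMap.snd_comp_inr _ _ _)
  { toSubmodule := ofIdeal J
    finite_quotient := hf'
    projective_quotient := hp'
    rankAtStalk_eq := fun p => by
      haveI : Nontrivial A := p.nontrivial
      have h := hr p
      rw [Module.rankAtStalk_eq_of_equiv e, Module.rankAtStalk_prod, Pi.add_apply,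
        Module.rankAtStalk_self] at h
      simp only [Pi.one_apply] at h
      omega }

variable {B : Type u} [CommRing B] [Algebra R B]

/-- Change of algebra. -/
def chg (φ : A →ₐ[R] B) : A ⊗[R] Ext R M →ₐ[R] B ⊗[R] Ext R M :=
  Algebra.TensorProduct.map φ (AlgHom.id R (Ext R M))

theorem map_eq_span {d : ℕ} (φ : A →ₐ[R] B) (N : Module.Grassmannian A (A ⊗[R] M) d) :
    (Module.Grassmannian.map φ N).toSubmodule =
      Submodule.span B (φ.toLinearMap.rTensor M '' N.toSubmodule) := by
  letI : Algebra A B := φ.toRingHom.toAlgebra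
  haveI : IsScalarTower R A B := IsScalarTower.of_algebraMap_eq' φ.comp_algebraMap.symm
  let cbc := AlgebraTensorModule.cancelBaseChange R A B B M
  have hι : ∀ x, φ.toLinearMap.rTensor M x = cbc (1 ⊗ₜ[A] x) := fun x => by
    induction x with
    | zero => simp
    | tmul a m => simp [cbc, Algebra.smul_def]; rfl
    | add x y hx hy => rw [map_add, tmul_add, map_add, hx, hy]
  rw [Module.Grassmannian.map_toSubmodule]
  refine le_antisymm (fun z hz => ?_) (Submodule.span_le.2 ?_)
  · have hz' : (N.toSubmodule.mkQ).baseChange B (cbc.symm z) = 0 := hz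
    obtain ⟨v, hv⟩ := (lTensor_exact (M := N.toSubmodule) B (LinearMap.exact_subtype_mkQ N.toSubmodule)
      N.toSubmodule.mkQ_surjective (cbc.symm z)).1 hz'
    rw [← cbc.apply_symm_apply z, ← hv]
    clear hv hz' hz
    induction v with
    | zero => simp
    | tmul b x =>
      rw [LinearMap.lTensor_tmul, show b ⊗ₜ[A] (N.toSubmodule.subtype x) =
        b • ((1 : B) ⊗ₜ[A] (x : A ⊗[R] M)) by
        rw [smul_tmul', smul_eq_mul, mul_one]; rfl, map_smul, ← hι]
      exact Submodule.smul_mem _ _ (Submodule.subset_span ⟨_, x.2, rfl⟩)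
    | add x y hx hy => rw [map_add, map_add]; exact add_mem hx hy
  · rintro _ ⟨x, hx, rfl⟩
    show (N.toSubmodule.mkQ).baseChange B (cbc.symm (φ.toLinearMap.rTensor M x)) = 0
    rw [hι, LinearEquiv.symm_apply_apply, LinearMap.baseChange_tmul, Submodule.mkQ_apply,
      (Submodule.Quotient.mk_eq_zero _).2 hx, tmul_zero]

theorem chg_incA (φ : A →ₐ[R] B) (x : A ⊗[R] M) :
    chg φ (incA R M A x) = incA R M B (φ.toLinearMap.rTensor M x) := by
  induction x with
  | zero => simp
  | tmul a m => rfl
  | add x y hx hy => simp only [map_add, hx, hy]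

theorem toIdeal_map {d : ℕ} (φ : A →ₐ[R] B) (N : Module.Grassmannian A (A ⊗[R] M) d) :
    toIdeal (Module.Grassmannian.map φ N).toSubmodule = (toIdeal N.toSubmodule).map (chg φ) := by
  have hN : ∀ x ∈ N.toSubmodule, incA R M A x ∈ toIdeal N.toSubmodule := fun x hx =>
    ⟨augA_incA A x, by rwa [prjA_incA]⟩
  refine le_antisymm (fun z hz => ?_) (Ideal.map_le_iff_le_comap.2 fun z hz => ?_)
  · obtain ⟨h0, h1⟩ := hz
    rw [map_eq_span] at h1
    rw [decompA B z, h0, map_zero, zero_add]
    generalize prjA R M B z = w at h1 ⊢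
    induction h1 using Submodule.span_induction with
    | mem x hx =>
      obtain ⟨x, hx, rfl⟩ := hx
      rw [← chg_incA]
      exact Ideal.mem_map_of_mem _ (hN x hx)
    | zero => rw [map_zero]; exact zero_mem _
    | add x y _ _ hx hy => rw [map_add]; exact add_mem hx hy
    | smul c x _ hx => rw [map_smul, Algebra.smul_def]; exact Ideal.mul_mem_left _ _ hx
  · rw [Ideal.mem_comap, show z = incA R M A (prjA R M A z) by
      conv_lhs => rw [decompA A z, hz.1, map_zero, zero_add], chg_incA]
    refine ⟨augA_incA B _, ?_⟩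
    rw [prjA_incA, map_eq_span]
    exact Submodule.subset_span ⟨_, hz.2, rfl⟩

end

end Groth.Agent.GrassRep
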